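import Groth.Agent.L25.HomSmooth.Glue
import Groth.Agent.L25.MultTypeBC
import Groth.Agent.L23.AffineMor

/-!
# Lifting homomorphisms from groups of multiplicative type to smooth groups along a nilpotent ideal
-/

set_option autoImplicit false
universe u

open CategoryTheory CategoryTheory.Limits MonoidalCategory CartesianMonoidalCategory MonObj GrpObj
open AlgebraicGeometry

set_option backward.isDefEq.respectTransparency.types false

noncomputable section

namespace Groth.L25.HomSmooth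

open Groth.L25.Cocycle

theorem isAffineHom_of_locally {S : Scheme.{u}} {H : Over S} [GrpObj H]
    (hH : TwC.Locally S TwC.Topology.fpqc (fun S' f => ∃ (M : Type) (_ : AddCommGroup M),
      Nonempty (Grp.mk (Red.bc f H) ≅ Grp.mk (Red.DS S' M)))) :
    IsAffineHom H.hom := by
  obtain ⟨S', f, hflat, hsurj, hqc, hloc⟩ := hH
  refine FpqcLocal.of_fpqc (P := @IsAffineHom) H.hom (𝟙 S) f hqc fun s => ?_
  obtain ⟨W, hsW, M, instM, ⟨e⟩⟩ := hloc s
  refine ⟨W, hsW, FpqcLocal.bc_comp H.hom (pullback.snd (𝟙 S) (W.ι ≫ f)) (W.ι ≫ f) _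
    (by rw [← pullback.condition, Category.comp_id]) ?_⟩
  have : IsIso e.hom.hom.hom :=
    ⟨e.inv.hom.hom, congr($(e.hom_inv_id).hom.hom), congr($(e.inv_hom_id).hom.hom)⟩
  have : IsIso e.hom.hom.hom.left := inferInstanceAs (IsIso ((Over.forget _).map e.hom.hom.hom))
  have h1 : IsAffineHom (Red.diag (ULift.{u} ℤ) M).hom := by
    show IsAffineHom (Spec.map (CommRingCat.ofHom
      (algebraMap (ULift.{u} ℤ) (MonoidAlgebra (ULift.{u} ℤ) (Multiplicative M)))))
    infer_instance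
  have h2 : IsAffineHom (Red.DS W.toScheme M).hom := MorphismProperty.pullback_snd _ _ h1
  show IsAffineHom (Red.bc (W.ι ≫ f) H).hom
  rw [← Over.w e.hom.hom.hom]
  infer_instance

variable {R : Type u} [CommRing R] {H G : Over (Spec (CommRingCat.of R))}

/-- lifting of a point with values in a quotient of `A` along a square zero step -/
theorem exists_lift_quot [Smooth G.hom] {A : Type u} [CommRing A] {I I' : Ideal A} (hle : I ≤ I') (h2 : I' * I' ≤ I)
    (c : Spec (CommRingCat.of A) ⟶ Spec (CommRingCat.of R))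
    (a : Spec (CommRingCat.of (A ⧸ I')) ⟶ G.left)
    (ha : a ≫ G.hom = Spec.map (CommRingCat.ofHom (Ideal.Quotient.mk I')) ≫ c) :
    ∃ b : Spec (CommRingCat.of (A ⧸ I)) ⟶ G.left,
      b ≫ G.hom = Spec.map (CommRingCat.ofHom (Ideal.Quotient.mk I)) ≫ c ∧
      Spec.map (CommRingCat.ofHom (Ideal.Quotient.factor hle)) ≫ b = a := by
  let K : Ideal (A ⧸ I) := I'.map (Ideal.Quotient.mk I)
  have hK : K ^ 2 = ⊥ := by
    rw [pow_two, ← Ideal.map_mul, Ideal.map_eq_bot_iff_le_ker, Ideal.mk_ker]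
    exact h2
  have hker : ∀ x ∈ K, Ideal.Quotient.factor hle x = 0 := by
    intro x hx
    obtain ⟨y, hy, rfl⟩ := (Ideal.mem_map_iff_of_surjective _ Ideal.Quotient.mk_surjective).1 hx
    rw [Ideal.Quotient.factor_mk, Ideal.Quotient.eq_zero_iff_mem]
    exact hy
  let ψ : (A ⧸ I) ⧸ K →+* A ⧸ I' := Ideal.Quotient.lift K (Ideal.Quotient.factor hle) hker
  let φ : A ⧸ I' →+* (A ⧸ I) ⧸ K := Ideal.Quotient.lift I' ((Ideal.Quotient.mk K).comp (Ideal.Quotient.mk I))
    fun r hr => Ideal.Quotient.eq_zero_iff_mem.2 (Ideal.mem_map_of_mem _ hr)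
  obtain ⟨l, hl1, hl2⟩ := isFormallySmoothHom_of_smooth G.hom (A ⧸ I) K hK
    (Spec.map (CommRingCat.ofHom φ) ≫ a) (Spec.map (CommRingCat.ofHom (Ideal.Quotient.mk I)) ≫ c) (by
      rw [Category.assoc, ha, ← Spec.map_comp_assoc, ← Spec.map_comp_assoc]
      rfl)
  refine ⟨l, hl2, ?_⟩
  have e1 : Spec.map (CommRingCat.ofHom (Ideal.Quotient.factor hle)) =
      Spec.map (CommRingCat.ofHom ψ) ≫ Spec.map (CommRingCat.ofHom (Ideal.Quotient.mk K)) := by
    rw [← Spec.map_comp, ← CommRingCat.ofHom_comp, Ideal.Quotient.lift_comp_mk]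
  rw [e1, Category.assoc, hl1, ← Spec.map_comp_assoc, ← CommRingCat.ofHom_comp,
    show ψ.comp φ = RingHom.id _ from Ideal.Quotient.ringHom_ext (RingHom.ext fun r => rfl),
    CommRingCat.ofHom_id, Spec.map_id, Category.id_comp]

variable (H) in
/-- the structure map on global functions -/
def θH : R →+* Γ(H.left, ⊤) :=
  (H.hom.appTop.hom).comp (Scheme.ΓSpecIso (CommRingCat.of R)).inv.hom

theorem toSpecΓ_θH : H.left.toSpecΓ ≫ Spec.map (CommRingCat.ofHom (θH H)) = H.hom := by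
  rw [show CommRingCat.ofHom (θH H) = (Scheme.ΓSpecIso (CommRingCat.of R)).inv ≫ H.hom.appTop from rfl,
    Spec.map_comp, ← Scheme.toSpecΓ_naturality_assoc, ← SpecMap_ΓSpecIso_hom, ← Spec.map_comp, Iso.inv_hom_id,
    Spec.map_id, Category.comp_id]

variable (H) in
/-- the closed subscheme of `H` over `Spec (R ⧸ I)` -/
def W (I : Ideal R) [IsAffine H.left] : Over (Spec (CommRingCat.of R)) :=
  Over.mk (Spec.map (CommRingCat.ofHom (Ideal.Quotient.mk (I.map (θH H)))) ≫ H.left.isoSpec.inv ≫ H.hom)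

/-- the inclusion -/
def wFst (I : Ideal R) [IsAffine H.left] : W H I ⟶ H :=
  Over.homMk (Spec.map (CommRingCat.ofHom (Ideal.Quotient.mk (I.map (θH H)))) ≫ H.left.isoSpec.inv)
    (Category.assoc _ _ _)

/-- the projection -/
def wSnd (I : Ideal R) [IsAffine H.left] : W H I ⟶ Z I :=
  Over.homMk (Spec.map (CommRingCat.ofHom (Ideal.quotientMap (I.map (θH H)) (θH H)
      (Ideal.le_comap_map (f := θH H) (I := I))))) (by
    show Spec.map _ ≫ Spec.map _ = Spec.map _ ≫ H.left.isoSpec.inv ≫ H.hom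
    have h : H.left.isoSpec.inv ≫ H.hom = Spec.map (CommRingCat.ofHom (θH H)) :=
      (Iso.inv_comp_eq _).2 (toSpecΓ_θH (H := H)).symm
    rw [h, ← Spec.map_comp, ← Spec.map_comp]
    congr 1)

instance mono_wFst (I : Ideal R) [IsAffine H.left] : Mono (wFst (H := H) I) := by
  have : IsClosedImmersion (Spec.map (CommRingCat.ofHom (Ideal.Quotient.mk (I.map (θH H))))) :=
    IsClosedImmersion.spec_of_surjective _ Ideal.Quotient.mk_surjective
  exact ⟨fun a b h => Over.OverMorphism.ext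
    ((cancel_mono (Spec.map (CommRingCat.ofHom (Ideal.Quotient.mk (I.map (θH H)))) ≫ H.left.isoSpec.inv)).1
      (congrArg (fun m => m.left) h))⟩

theorem exists_toW (I : Ideal R) [IsAffine H.left] : ∃ v : H ⊗ Z I ⟶ W H I, v ≫ wFst I = fst H (Z I) := by
  let P := (H ⊗ Z I).left
  let α := (fst H (Z I)).left.appTop
  have hα : ∀ x ∈ I.map (θH H), α.hom x = 0 := by
    intro x hx
    refine (Ideal.map_le_iff_le_comap.2 fun r hr => ?_ : I.map (θH H) ≤ RingHom.ker α.hom) hx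
    rw [Ideal.mem_comap, RingHom.mem_ker]
    have e : (fst H (Z I)).left ≫ H.hom = (snd H (Z I)).left ≫ (Z I).hom :=
      (Over.w (fst H (Z I))).trans (Over.w (snd H (Z I))).symm
    have h2 := congrArg (fun m => m.appTop.hom ((Scheme.ΓSpecIso (CommRingCat.of R)).inv.hom r)) e
    simp only [Scheme.Hom.comp_appTop, CommRingCat.hom_comp, RingHom.comp_apply] at h2
    refine h2.trans ?_
    have h3 := congrArg (fun m => m.hom r) (Scheme.ΓSpecIso_inv_naturality (CommRingCat.ofHom (Ideal.Quotient.mk I)))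
    simp only [CommRingCat.hom_comp, RingHom.comp_apply, CommRingCat.hom_ofHom] at h3
    rw [Ideal.Quotient.eq_zero_iff_mem.2 hr, map_zero] at h3
    show (snd H (Z I)).left.appTop.hom ((Spec.map (CommRingCat.ofHom (Ideal.Quotient.mk I))).appTop.hom _) = 0
    rw [← h3, map_zero]
  let ν := P.toSpecΓ ≫ Spec.map (CommRingCat.ofHom (Ideal.Quotient.lift (I.map (θH H)) α.hom hα))
  have hν : ν ≫ Spec.map (CommRingCat.ofHom (Ideal.Quotient.mk (I.map (θH H)))) ≫ H.left.isoSpec.inv =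
      (fst H (Z I)).left := by
    rw [Category.assoc, ← Spec.map_comp_assoc, ← CommRingCat.ofHom_comp, Ideal.Quotient.lift_comp_mk]
    show P.toSpecΓ ≫ Spec.map α ≫ _ = _
    rw [← Scheme.toSpecΓ_naturality_assoc]
    exact (congrArg ((fst H (Z I)).left ≫ ·) H.left.isoSpec.hom_inv_id).trans (Category.comp_id _)
  refine ⟨Over.homMk ν ?_, Over.OverMorphism.ext hν⟩
  show ν ≫ Spec.map _ ≫ H.left.isoSpec.inv ≫ H.hom = _
  rw [reassoc_of% hν]
  exact Over.w (fst H (Z I))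

/-- lifting of a morphism -/
theorem exists_mor_lift [IsAffine H.left] [Smooth G.hom] {I I' : Ideal R} (hle : I ≤ I') (h2 : I' * I' ≤ I)
    (f' : H ⊗ Z I' ⟶ G) : ∃ f : H ⊗ Z I ⟶ G, H ◁ zMap hle ≫ f = f' := by
  let a : W H I' ⟶ G := lift (wFst I') (wSnd I') ≫ f'
  obtain ⟨b, hb1, hb2⟩ := exists_lift_quot (G := G) (Ideal.map_mono hle : I.map (θH H) ≤ I'.map (θH H))
    (by rw [← Ideal.map_mul]; exact Ideal.map_mono h2) (H.left.isoSpec.inv ≫ H.hom) a.left (Over.w a)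
  let b' : W H I ⟶ G := Over.homMk b hb1
  let wMap : W H I' ⟶ W H I :=
    Over.homMk (Spec.map (CommRingCat.ofHom (Ideal.Quotient.factor (Ideal.map_mono hle)))) (by
      show Spec.map _ ≫ Spec.map _ ≫ _ = Spec.map _ ≫ _
      rw [← Spec.map_comp_assoc]; rfl)
  have hwf : wMap ≫ wFst I = wFst I' := by
    apply Over.OverMorphism.ext
    show Spec.map _ ≫ Spec.map _ ≫ _ = Spec.map _ ≫ _
    rw [← Spec.map_comp_assoc]; rfl
  obtain ⟨v, hv⟩ := exists_toW (H := H) I
  obtain ⟨v', hv'⟩ := exists_toW (H := H) I'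
  refine ⟨v ≫ b', ?_⟩
  have e1 : H ◁ zMap hle ≫ v = v' ≫ wMap := by
    rw [← cancel_mono (wFst I), Category.assoc, Category.assoc, hv, hwf, hv', whiskerLeft_fst]
  have e2 : v' ≫ lift (wFst I') (wSnd I') = 𝟙 _ := by
    refine CartesianMonoidalCategory.hom_ext _ _ ?_ (hom_Z_subsingleton _ _)
    rw [Category.assoc, lift_fst, hv', Category.id_comp]
  rw [← Category.assoc, e1, Category.assoc, show wMap ≫ b' = a from Over.OverMorphism.ext hb2, ← Category.assoc,
    e2, Category.id_comp]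

variable [GrpObj H] [GrpObj G]
  (hH : TwC.Locally (Spec (CommRingCat.of R)) TwC.Topology.fpqc (fun S' f => ∃ (M : Type) (_ : AddCommGroup M),
    Nonempty (Grp.mk (Red.bc f H) ≅ Grp.mk (Red.DS S' M))))

include hH in
/-- one step -/
theorem exists_mulOn_step [Smooth G.hom] {I I' : Ideal R} (hle : I ≤ I') (h2 : I' * I' ≤ I)
    (f' : H ⊗ Z I' ⟶ G) (hf' : MulOn f') : ∃ f : H ⊗ Z I ⟶ G, MulOn f ∧ H ◁ zMap hle ≫ f = f' := by
  have := isAffineHom_of_locally hH
  have : IsAffine H.left := isAffine_of_isAffineHom H.hom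
  obtain ⟨f₀, hf₀⟩ := exists_mor_lift hle h2 f'
  have hlift : ∀ (Y : Over (Spec (CommRingCat.of R))) (q : Y ⟶ Z I') (p : Y ⟶ Z I) (a : Y ⟶ H),
      lift a p ≫ f₀ = lift a q ≫ f' := fun Y q p a => by
    rw [← hf₀, hom_Z_subsingleton p (q ≫ zMap hle), ← Category.assoc, lift_whiskerLeft]
  let K : Ideal (R ⧸ I) := I'.map (Ideal.Quotient.mk I)
  have hK : K * K = ⊥ := by
    rw [← Ideal.map_mul, Ideal.map_eq_bot_iff_le_ker, Ideal.mk_ker]
    exact h2
  have hker : ∀ x ∈ K, Ideal.Quotient.factor hle x = 0 := by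
    intro x hx
    obtain ⟨y, hy, rfl⟩ := (Ideal.mem_map_iff_of_surjective _ Ideal.Quotient.mk_surjective).1 hx
    rw [Ideal.Quotient.factor_mk, Ideal.Quotient.eq_zero_iff_mem]
    exact hy
  obtain ⟨f, hf, hag⟩ := exists_lift_sq (j := (Z I).hom) (J := K) hK (f₀ : H ⊗ Z I ⟶ G) (fun C _ _ hC x y => by
    let ρ : R ⧸ I' →+* C := Ideal.Quotient.lift I' ((algebraMap (R ⧸ I) C).comp (Ideal.Quotient.mk I))
      fun r hr => hC _ (Ideal.mem_map_of_mem _ hr)
    let q : X (Z I).hom C ⟶ Z I' := Over.homMk (Spec.map (CommRingCat.ofHom ρ)) (by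
      show Spec.map _ ≫ Spec.map _ = Spec.map _ ≫ Spec.map _
      rw [← Spec.map_comp, ← Spec.map_comp]
      rfl)
    show lift (x * y) _ ≫ f₀ = (lift x _ ≫ f₀) * (lift y _ ≫ f₀)
    rw [hlift _ q, hlift _ q, hlift _ q]
    exact hf' _ q x y) hH
  refine ⟨f, hf, ?_⟩
  let ψ : (R ⧸ I) ⧸ K →+* R ⧸ I' := Ideal.Quotient.lift K (Ideal.Quotient.factor hle) hker
  have h3 := hag (H ⊗ Z I') (snd H (Z I') ≫ zMap hle)
    ((snd H (Z I')).left ≫ Spec.map (CommRingCat.ofHom ψ)) (by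
      show (snd H (Z I')).left ≫ Spec.map _ = _
      rw [Category.assoc, ← Spec.map_comp]
      rfl) (fst H (Z I'))
  have e : lift (fst H (Z I')) (snd H (Z I') ≫ zMap hle) = H ◁ zMap hle := by
    ext1 <;> simp
  rw [e, hf₀] at h3
  exact h3

include hH in
/-- homomorphisms into a smooth group lift along a nilpotent ideal -/
theorem exists_hom_lift_smooth [Smooth G.hom] {J : Ideal R} (hJ : IsNilpotent J) (f₀ : H ⊗ Z J ⟶ G)
    (hf₀ : MulOn f₀) : ∃ φ : H ⟶ G, IsMonHom φ ∧ fst H (Z J) ≫ φ = f₀ := by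
  obtain ⟨N, hN⟩ := hJ
  have key : ∀ k : ℕ, ∃ f : H ⊗ Z (J ^ (k + 1)) ⟶ G, MulOn f ∧
      H ◁ zMap (Ideal.pow_le_self k.succ_ne_zero) ≫ f = f₀ := by
    intro k
    induction k with
    | zero =>
      refine ⟨H ◁ zMap (by rw [pow_one]) ≫ f₀, fun Y p a b => ?_, ?_⟩
      · simp only [lift_whiskerLeft_assoc]
        exact hf₀ Y _ a b
      · rw [← Category.assoc, ← whiskerLeft_comp, hom_Z_subsingleton (_ ≫ _) (𝟙 _), MonoidalCategory.whiskerLeft_id,
          Category.id_comp]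
    | succ k ih =>
      obtain ⟨f, hf, hfe⟩ := ih
      obtain ⟨g, hg, hge⟩ := exists_mulOn_step hH (Ideal.pow_le_pow_right (I := J) (Nat.le_succ (k + 1)))
        (by rw [← pow_add]; exact Ideal.pow_le_pow_right (by omega)) f hf
      refine ⟨g, hg, ?_⟩
      rw [← hfe, ← hge, ← Category.assoc, ← whiskerLeft_comp]
      congr 2
      exact hom_Z_subsingleton _ _
  obtain ⟨f, hf, hfe⟩ := key N
  have h0 : J ^ (N + 1) = ⊥ := by rw [pow_succ, hN, Ideal.zero_eq_bot, Ideal.bot_mul]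
  let inv : R ⧸ J ^ (N + 1) →+* R := Ideal.Quotient.lift _ (RingHom.id R) fun r hr => by
    rw [h0, Ideal.mem_bot] at hr; exact hr
  let c : 𝟙_ (Over (Spec (CommRingCat.of R))) ⟶ Z (J ^ (N + 1)) := Over.homMk (Spec.map (CommRingCat.ofHom inv)) (by
    show Spec.map _ ≫ Spec.map _ = 𝟙 _
    rw [← Spec.map_comp, ← CommRingCat.ofHom_comp, Ideal.Quotient.lift_comp_mk, CommRingCat.ofHom_id, Spec.map_id])
  let φ : H ⟶ G := lift (𝟙 H) (toUnit H ≫ c) ≫ f
  have hcomp : ∀ (Y : Over (Spec (CommRingCat.of R))) (a : Y ⟶ H), a ≫ φ = lift a (toUnit Y ≫ c) ≫ f := fun Y a => by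
    rw [← Category.assoc, comp_lift, Category.comp_id, ← Category.assoc, toUnit_unique (a ≫ toUnit H) (toUnit Y)]
  have hmul : ∀ (Y : Over (Spec (CommRingCat.of R))) (a b : Y ⟶ H), (a * b) ≫ φ = (a ≫ φ) * (b ≫ φ) :=
    fun Y a b => by rw [hcomp, hcomp, hcomp, hf]
  refine ⟨φ, ⟨?_, by rw [MonObj.mul_eq_mul, hmul, MonObj.mul_eq_mul, MonObj.comp_mul, tensorHom_fst, tensorHom_snd]⟩, ?_⟩
  · have h1 : ∀ (K : Over (Spec (CommRingCat.of R))) [GrpObj K], (η[K] : 𝟙_ (Over (Spec (CommRingCat.of R))) ⟶ K) = 1 :=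
      fun K _ => by rw [Hom.one_def, toUnit_unique (toUnit _) (𝟙 _), Category.id_comp]
    rw [h1 H, h1 G]
    have h2 := hmul _ (1 : 𝟙_ (Over (Spec (CommRingCat.of R))) ⟶ H) 1
    rw [_root_.one_mul] at h2
    exact left_eq_mul.1 h2
  · rw [hcomp, ← hfe]
    congr 1
    refine CartesianMonoidalCategory.hom_ext _ _ ?_ (hom_Z_subsingleton _ _)
    simp

end Groth.L25.HomSmooth
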