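import Groth.Agent.L25.HomSmooth.Average

/-!
# Correcting a morphism to a homomorphism along a square zero ideal
-/

set_option autoImplicit false
universe u

open CategoryTheory CategoryTheory.Limits MonoidalCategory CartesianMonoidalCategory MonObj GrpObj
open AlgebraicGeometry

set_option backward.isDefEq.respectTransparency.types false

noncomputable section

namespace Groth.L25.HomSmooth

open Groth.L25.Cocycle

variable {S : Scheme.{u}} {R : Type u} [CommRing R] {j : Spec (CommRingCat.of R) ⟶ S} {J : Ideal R}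
  {H G : Over S} [GrpObj H] [GrpObj G]

/-- a family of homomorphisms parametrised by `T` -/
def MulOn {T : Over S} (f : H ⊗ T ⟶ G) : Prop :=
  ∀ (Y : Over S) (p : Y ⟶ T) (a b : Y ⟶ H), lift (a * b) p ≫ f = (lift a p ≫ f) * (lift b p ≫ f)

variable (hJ : J * J = ⊥) (f : H ⊗ Over.mk j ⟶ G)
  (hf : ∀ (C : Type u) [CommRing C] [Algebra R C], (∀ r ∈ J, algebraMap R C r = 0) →
    ∀ x y : X j C ⟶ H, fv f (x * y) = fv f x * fv f y)

/-- the corrected value, without instances -/
def fixVal {M : Type} [CommGroup M] (B : Type u) [CommRing B] (ρ : R →+* B)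
    (e : Chart (Spec.map (CommRingCat.ofHom ρ) ≫ j) H M) (a : Spec (CommRingCat.of B) ⟶ H.left)
    (ha : a ≫ H.hom = Spec.map (CommRingCat.ofHom ρ) ≫ j) : Spec (CommRingCat.of B) ⟶ G.left :=
  letI := ρ.toAlgebra
  (fix hJ f hf e (Over.homMk a ha)).left

theorem fixVal_map {M N : Type} [CommGroup M] [CommGroup N] {B B' : Type u} [CommRing B] [CommRing B']
    (b : B →+* B') (ρ : R →+* B) (ρ' : R →+* B') (e : Chart (Spec.map (CommRingCat.ofHom ρ) ≫ j) H M)
    (e' : Chart (Spec.map (CommRingCat.ofHom ρ') ≫ j) H N) (a : Spec (CommRingCat.of B) ⟶ H.left) (ha)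
    (a' : Spec (CommRingCat.of B') ⟶ H.left) (ha') (hρ : ρ' = b.comp ρ)
    (haa : a' = Spec.map (CommRingCat.ofHom b) ≫ a) :
    Spec.map (CommRingCat.ofHom b) ≫ fixVal hJ f hf B ρ e a ha = fixVal hJ f hf B' ρ' e' a' ha' := by
  subst hρ haa
  letI := ρ.toAlgebra
  letI := (b.comp ρ).toAlgebra
  let h : B →ₐ[R] B' := { b with commutes' := fun r => rfl }
  exact congrArg (fun m => m.left) (mor_fix hJ f hf e e' h (Over.homMk a ha))

theorem fixVal_hom {M : Type} [CommGroup M] (B : Type u) [CommRing B] (ρ : R →+* B)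
    (e : Chart (Spec.map (CommRingCat.ofHom ρ) ≫ j) H M) (a : Spec (CommRingCat.of B) ⟶ H.left) (ha) :
    fixVal hJ f hf B ρ e a ha ≫ G.hom = Spec.map (CommRingCat.ofHom ρ) ≫ j :=
  letI := ρ.toAlgebra
  Over.w (fix hJ f hf e (Over.homMk a ha))

theorem fixVal_eq {M : Type} [CommGroup M] (B : Type u) [CommRing B] [i : Algebra R B]
    (e : Chart (Spec.map (CommRingCat.ofHom (algebraMap R B)) ≫ j) H M) (x : X j B ⟶ H) :
    fixVal hJ f hf B (algebraMap R B) e x.left (Over.w x) = (fix hJ f hf e x).left := by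
  have hi : (algebraMap R B).toAlgebra = i := Algebra.algebra_ext _ _ fun r => rfl
  unfold fixVal
  congr! <;> first | exact hi | rfl

attribute [irreducible] fixVal

variable (F : Family j H)

/-- the chart at a point over a member of the family -/
def resChart {i : F.idx} {B : Type u} [CommRing B] (φ : F.C i →+* B) :
    Chart (Spec.map (CommRingCat.ofHom (φ.comp (F.θ i))) ≫ j) H (F.M i) :=
  (F.chart i).restrict φ (by rw [← Spec.map_comp_assoc]; rfl)

/-- the projection to the base -/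
abbrev projT : (H ⊗ Over.mk j).left ⟶ Spec (CommRingCat.of R) := (snd H (Over.mk j)).left

theorem fst_pts {i : F.idx} {B : Type u} [CommRing B] (x : Glue.Pts F.θ (projT (H := H) (j := j)) i B) :
    (x.1.2 ≫ (fst H (Over.mk j)).left) ≫ H.hom = Spec.map (CommRingCat.ofHom (x.1.1.comp (F.θ i))) ≫ j := by
  rw [Category.assoc, Over.w (fst H (Over.mk j)), ← Over.w (snd H (Over.mk j)), CommRingCat.ofHom_comp,
    Spec.map_comp, Category.assoc]
  exact (Category.assoc _ _ _).symm.trans ((congrArg (· ≫ j) x.2).trans (Category.assoc _ _ _))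

/-- the values -/
def values : Glue.Values F.θ (projT (H := H) (j := j)) G.left where
  val i B _ x := fixVal hJ f hf B (x.1.1.comp (F.θ i)) (resChart F x.1.1) _ (fst_pts F x)
  nat i {B B'} _ _ b x := fixVal_map hJ f hf b _ _ _ _ _ _ _ _ rfl (Category.assoc _ _ _)
  compat i k B _ x y hxy := by
    have e1 : y.1.1.comp (F.θ k) = x.1.1.comp (F.θ i) := by
      have h1 := x.2
      rw [hxy, y.2, ← Spec.map_comp, ← Spec.map_comp] at h1
      exact congrArg (fun m => m.hom) (Spec.map_injective h1)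
    have h := fixVal_map hJ f hf (RingHom.id B) _ (y.1.1.comp (F.θ k)) (resChart F x.1.1) (resChart F y.1.1)
      _ (fst_pts F x) _ (fst_pts F y) (by rw [e1]; rfl)
      (by rw [CommRingCat.ofHom_id, Spec.map_id, Category.id_comp, hxy])
    rw [CommRingCat.ofHom_id, Spec.map_id, Category.id_comp] at h
    exact h

include F hJ hf in
theorem exists_lift_sq_family : ∃ f' : H ⊗ Over.mk j ⟶ G, MulOn f' ∧
    ∀ (Y : Over S) (p : Y ⟶ Over.mk j) (q : Y.left ⟶ Spec (CommRingCat.of (R ⧸ J))),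
      p.left = q ≫ Spec.map (CommRingCat.ofHom (Ideal.Quotient.mk J)) →
        ∀ a : Y ⟶ H, lift a p ≫ f' = lift a p ≫ f := by
  obtain ⟨φ₀, hφ₀⟩ := Glue.exists_desc F.flat F.surj (values hJ f hf F)
  have hw : φ₀ ≫ G.hom = (H ⊗ Over.mk j).hom := by
    refine Glue.ext_pts (θ := F.θ) (p := projT (H := H) (j := j)) F.flat F.surj _ _ fun i B _ x => ?_
    rw [reassoc_of% (hφ₀ i B x)]
    refine (fixVal_hom hJ f hf B _ _ _ _).trans ?_
    rw [← fst_pts F x, Category.assoc, Over.w (fst H (Over.mk j))]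
  let f' : H ⊗ Over.mk j ⟶ G := Over.homMk φ₀ hw
  have hval : ∀ (i : F.idx) (B : Type u) [CommRing B] [Algebra R B] (φ : F.C i →+* B)
      (hφ : algebraMap R B = φ.comp (F.θ i)) (a : X j B ⟶ H),
      fv f' a = fix hJ f hf (Chart.restrict φ (j' := Spec.map (CommRingCat.ofHom (algebraMap R B)) ≫ j)
        (by rw [hφ, ← Spec.map_comp_assoc]; rfl) (F.chart i)) a := by
    intro i B _ _ φ hφ a
    apply Over.OverMorphism.ext
    let z := (lift a (toT j B)).left
    have hz : z ≫ (snd H (Over.mk j)).left = Spec.map (CommRingCat.ofHom (algebraMap R B)) :=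
      congrArg (fun m => m.left) (lift_snd a (toT j B))
    have hz' : z ≫ (fst H (Over.mk j)).left = a.left := congrArg (fun m => m.left) (lift_fst a (toT j B))
    let x : Glue.Pts F.θ (projT (H := H) (j := j)) i B := ⟨(φ, z), by
      show z ≫ (snd H (Over.mk j)).left = _
      rw [hz, ← Spec.map_comp, hφ]; rfl⟩
    refine (hφ₀ i B x).trans ?_
    rw [← fixVal_eq hJ f hf B _ a]
    show fixVal hJ f hf B (φ.comp (F.θ i)) (resChart F φ) (z ≫ (fst H (Over.mk j)).left) (fst_pts F x) = _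
    refine Eq.trans ?_ (fixVal_map hJ f hf (RingHom.id B) (φ.comp (F.θ i)) (algebraMap R B) (resChart F φ) _
      (z ≫ (fst H (Over.mk j)).left) (fst_pts F x) a.left (Over.w a) (by rw [hφ]; rfl)
      (by rw [CommRingCat.ofHom_id, Spec.map_id, Category.id_comp, hz']))
    rw [CommRingCat.ofHom_id, Spec.map_id, Category.id_comp]
  have hlocal : ∀ (Y : Over S) (p : Y ⟶ Over.mk j) (a b : Y ⟶ G),
      (∀ (i : F.idx) (B : Type u) [CommRing B] [Algebra R B] (φ : F.C i →+* B)
        (_ : algebraMap R B = φ.comp (F.θ i)) (ζ : X j B ⟶ Y), ζ ≫ p = toT j B → ζ ≫ a = ζ ≫ b) → a = b := by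
    intro Y p a b h
    refine Over.OverMorphism.ext (Glue.ext_pts (θ := F.θ) (p := p.left) F.flat F.surj _ _ fun i B _ x => ?_)
    letI := (x.1.1.comp (F.θ i)).toAlgebra
    have hx : x.1.2 ≫ p.left = Spec.map (CommRingCat.ofHom (algebraMap R B)) := by
      rw [x.2, ← Spec.map_comp]; rfl
    let ζ : X j B ⟶ Y := Over.homMk x.1.2 (by
      show x.1.2 ≫ Y.hom = Spec.map _ ≫ j
      rw [← Over.w p]
      exact (Category.assoc _ _ _).symm.trans (congrArg (· ≫ j) hx))
    exact congrArg (fun m => m.left) (h i B x.1.1 rfl ζ (Over.OverMorphism.ext hx))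
  refine ⟨f', fun Y p a b => hlocal Y p _ _ fun i B _ _ φ hφ ζ hζ => ?_, fun Y p q hq a =>
    hlocal Y p _ _ fun i B _ _ φ hφ ζ hζ => ?_⟩
  · rw [MonObj.comp_mul, ← Category.assoc, ← Category.assoc, ← Category.assoc, comp_lift, comp_lift, comp_lift,
      hζ, MonObj.comp_mul]
    show fv f' ((ζ ≫ a) * (ζ ≫ b)) = fv f' (ζ ≫ a) * fv f' (ζ ≫ b)
    rw [hval i B φ hφ, hval i B φ hφ, hval i B φ hφ, fix_mul]
  · rw [← Category.assoc, ← Category.assoc, comp_lift, hζ]
    show fv f' (ζ ≫ a) = fv f (ζ ≫ a)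
    rw [hval i B φ hφ]
    refine fix_of_kill hJ f hf _ (fun r hr => ?_) _
    have e2 : Spec.map (CommRingCat.ofHom (algebraMap R B)) =
        Spec.map (CommRingCat.ofHom (Ideal.Quotient.mk J) ≫ Spec.preimage (ζ.left ≫ q)) := by
      rw [Spec.map_comp, Spec.map_preimage, Category.assoc, ← hq]
      exact (congrArg (fun m => m.left) hζ).symm
    have e3 := RingHom.congr_fun (congrArg (fun m => m.hom) (Spec.map_injective e2)) r
    simp only [CommRingCat.hom_ofHom, CommRingCat.hom_comp, RingHom.comp_apply,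
      Ideal.Quotient.eq_zero_iff_mem.2 hr, map_zero] at e3
    exact e3

include hJ hf in
/-- a morphism multiplicative modulo a square zero ideal can be corrected to a homomorphism -/
theorem exists_lift_sq (hH : TwC.Locally S TwC.Topology.fpqc (fun S' f => ∃ (M : Type) (_ : AddCommGroup M),
      Nonempty (Grp.mk (Red.bc f H) ≅ Grp.mk (Red.DS S' M)))) :
    ∃ f' : H ⊗ Over.mk j ⟶ G, MulOn f' ∧
      ∀ (Y : Over S) (p : Y ⟶ Over.mk j) (q : Y.left ⟶ Spec (CommRingCat.of (R ⧸ J))),
        p.left = q ≫ Spec.map (CommRingCat.ofHom (Ideal.Quotient.mk J)) →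
          ∀ a : Y ⟶ H, lift a p ≫ f' = lift a p ≫ f := by
  obtain ⟨F⟩ := exists_family (j := j) hH
  exact exists_lift_sq_family hJ f hf F

end Groth.L25.HomSmooth
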