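import Groth.Agent.L25.Cocycle.Descend
import Groth.Agent.L25.Cocycle.LiftHom

/-!
# Averaging points trivial modulo a square zero ideal; the second cohomology vanishes
-/

set_option autoImplicit false
universe u

open CategoryTheory CategoryTheory.Limits MonoidalCategory CartesianMonoidalCategory MonObj GrpObj
open AlgebraicGeometry

set_option backward.isDefEq.respectTransparency.types false

noncomputable section

namespace Groth.L25.HomSmooth

open Groth.L25.Cocycle

variable {S : Scheme.{u}} {R : Type u} [CommRing R] {j : Spec (CommRingCat.of R) ⟶ S} {J : Ideal R}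
  {H G : Over S} [GrpObj H] [GrpObj G] {M N : Type} [CommGroup M] [CommGroup N]

/-- trivial on algebras where `J` vanishes -/
def Triv (J : Ideal R) {A : Type u} [CommRing A] [Algebra R A] (w : X j A ⟶ G) : Prop :=
  ∀ (E : Type u) [CommRing E] [Algebra R E] (q : A →ₐ[R] E), (∀ r ∈ J, algebraMap R E r = 0) → mor j q ≫ w = 1

theorem Triv.comp {A A' : Type u} [CommRing A] [Algebra R A] [CommRing A'] [Algebra R A'] {w : X j A ⟶ G}
    (hw : Triv J w) (h : A →ₐ[R] A') : Triv J (mor j h ≫ w) := fun E _ _ q hE => by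
  rw [← Category.assoc, ← mor_comp]; exact hw E _ hE

theorem Triv.mul {A : Type u} [CommRing A] [Algebra R A] {w w' : X j A ⟶ G} (hw : Triv J w) (hw' : Triv J w') :
    Triv J (w * w') := fun E _ _ q hE => by
  rw [MonObj.comp_mul, hw E q hE, hw' E q hE, _root_.one_mul]

theorem Triv.conj {A : Type u} [CommRing A] [Algebra R A] {w : X j A ⟶ G} (hw : Triv J w) (g : X j A ⟶ G) :
    Triv J (g * w * g⁻¹) := fun E _ _ q hE => by
  rw [MonObj.comp_mul, MonObj.comp_mul, GrpObj.comp_inv, hw E q hE, _root_.mul_one, mul_inv_cancel]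

variable (C : Type u) [CommRing C] [Algebra R C]

variable (J M) in
theorem kills (C : Type u) [CommRing C] [Algebra R C] :
    ∀ r ∈ J, algebraMap R (MonoidAlgebra (C ⧸ JC J C) M) r = 0 := fun r hr => by
  rw [IsScalarTower.algebraMap_apply R (C ⧸ JC J C) (MonoidAlgebra (C ⧸ JC J C) M),
    algebraMap_quot_eq_zero C hr, map_zero]

theorem exists_avP {w : X j (MonoidAlgebra C M) ⟶ G} (hw : Triv J w) :
    ∃ c : X j (sub J C M) ⟶ G, mor j ((sub J C M).val.restrictScalars R) ≫ c = w ∧
      mor j ((toQuot J C M).restrictScalars R) ≫ c = 1 := by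
  have h1 : mor j ((redC J C M).restrictScalars R) ≫ w =
      mor j (IsScalarTower.toAlgHom R (C ⧸ JC J C) (MonoidAlgebra (C ⧸ JC J C) M)) ≫ (1 : X j (C ⧸ JC J C) ⟶ G) := by
    rw [MonObj.comp_one]; exact hw _ _ (kills J M C)
  obtain ⟨c, hc1, hc2⟩ := (isFib J C M).exists_desc_hom (Q := G.left) ((1 : X j (C ⧸ JC J C) ⟶ G).left)
    w.left (congrArg (fun m => m.left) h1).symm
  have hw' : c ≫ G.hom = (X j (sub J C M)).hom := by
    refine (isFib J C M).hom_ext_spec _ _ ?_ ?_
    · rw [reassoc_of% hc1]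
      exact (Over.w (1 : X j (C ⧸ JC J C) ⟶ G)).trans (Over.w (mor j ((toQuot J C M).restrictScalars R))).symm
    · rw [reassoc_of% hc2]
      exact (Over.w w).trans (Over.w (mor j ((sub J C M).val.restrictScalars R))).symm
  exact ⟨Over.homMk c hw', Over.OverMorphism.ext hc2, Over.OverMorphism.ext hc1⟩

variable {C}

/-- the extension to elements congruent to constants -/
def avP {w : X j (MonoidAlgebra C M) ⟶ G} (hw : Triv J w) : X j (sub J C M) ⟶ G := (exists_avP C hw).choose

theorem avP_val {w : X j (MonoidAlgebra C M) ⟶ G} (hw : Triv J w) :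
    mor j ((sub J C M).val.restrictScalars R) ≫ avP hw = w := (exists_avP C hw).choose_spec.1

theorem avP_toQuot {w : X j (MonoidAlgebra C M) ⟶ G} (hw : Triv J w) :
    mor j ((toQuot J C M).restrictScalars R) ≫ avP hw = 1 := (exists_avP C hw).choose_spec.2

variable (hJ : J * J = ⊥)

/-- the average -/
def av {w : X j (MonoidAlgebra C M) ⟶ G} (hw : Triv J w) : X j C ⟶ G :=
  mor j ((π J C M hJ).restrictScalars R) ≫ avP hw

theorem av_congr {w w' : X j (MonoidAlgebra C M) ⟶ G} (hw : Triv J w) (hw' : Triv J w') (h : w = w') :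
    av hJ hw = av hJ hw' := by
  subst h; rfl

theorem av_mul {w w' : X j (MonoidAlgebra C M) ⟶ G} (hw : Triv J w) (hw' : Triv J w') :
    av hJ (hw.mul hw') = av hJ hw * av hJ hw' := by
  have h : avP (hw.mul hw') = avP hw * avP hw' := sub_ext
    (by rw [avP_val, MonObj.comp_mul, avP_val, avP_val])
    (by rw [avP_toQuot, MonObj.comp_mul, avP_toQuot, avP_toQuot, _root_.one_mul])
  rw [av, av, av, h, MonObj.comp_mul]

/-- the inclusion of constants in the elements congruent to constants -/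
theorem π_ofId : ((π J C M hJ).restrictScalars R).comp ((Algebra.ofId C (sub J C M)).restrictScalars R) =
    AlgHom.id R C :=
  AlgHom.ext fun x => (π J C M hJ).commutes x

theorem av_const {w : X j (MonoidAlgebra C M) ⟶ G} (hw : Triv J w) (g : X j C ⟶ G) (hg : Triv J g)
    (h : w = mor j (IsScalarTower.toAlgHom R C (MonoidAlgebra C M)) ≫ g) : av hJ hw = g := by
  let Q : X j (sub J C M) ⟶ X j C := mor j ((Algebra.ofId C (sub J C M)).restrictScalars R)
  have hP : avP hw = Q ≫ g := by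
    refine sub_ext ?_ ?_
    · rw [avP_val, h, ← Category.assoc, ← mor_comp]
      rfl
    · rw [avP_toQuot, ← Category.assoc, ← mor_comp]
      exact (hg _ _ fun r hr => algebraMap_quot_eq_zero C hr).symm
  rw [av, hP, ← Category.assoc, ← mor_comp, π_ofId, mor_id, Category.id_comp]

theorem av_one {w : X j (MonoidAlgebra C M) ⟶ G} (hw : Triv J w) (h : w = 1) : av hJ hw = 1 :=
  av_const hJ hw 1 (fun E _ _ q _ => MonObj.comp_one _) (by rw [MonObj.comp_one, h])

theorem av_conj {w : X j (MonoidAlgebra C M) ⟶ G} (hw : Triv J w) (g : X j C ⟶ G)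
    {w' : X j (MonoidAlgebra C M) ⟶ G} (hw' : Triv J w')
    (h : w' = (mor j (IsScalarTower.toAlgHom R C (MonoidAlgebra C M)) ≫ g) * w *
      (mor j (IsScalarTower.toAlgHom R C (MonoidAlgebra C M)) ≫ g)⁻¹) :
    av hJ hw' = g * av hJ hw * g⁻¹ := by
  let Q : X j (sub J C M) ⟶ X j C := mor j ((Algebra.ofId C (sub J C M)).restrictScalars R)
  have hP : avP hw' = (Q ≫ g) * avP hw * (Q ≫ g)⁻¹ := by
    refine sub_ext ?_ ?_
    · rw [avP_val, h, MonObj.comp_mul, MonObj.comp_mul, GrpObj.comp_inv, avP_val,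
        ← Category.assoc, ← mor_comp]
      rfl
    · rw [avP_toQuot, MonObj.comp_mul, MonObj.comp_mul, GrpObj.comp_inv, avP_toQuot, _root_.mul_one,
        mul_inv_cancel]
  rw [av, hP, MonObj.comp_mul, MonObj.comp_mul, GrpObj.comp_inv, ← Category.assoc, ← mor_comp, π_ofId,
    mor_id, Category.id_comp]
  rfl

/-- naturality of the average -/
theorem av_twist {D : Type u} [CommRing D] [Algebra R D] {w : X j (MonoidAlgebra C M) ⟶ G} (hw : Triv J w)
    (h : C →ₐ[R] D) (χ : M →* MonoidAlgebra D N) (hχ : ∀ m, m ≠ 1 → (χ m).coeff 1 = 0)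
    {w' : X j (MonoidAlgebra D N) ⟶ G} (hw' : Triv J w') (e : w' = mor j (twist h χ) ≫ w) :
    mor j h ≫ av hJ hw = av hJ hw' := by
  have key : mor j (subMap h χ) ≫ avP hw = avP hw' := by
    refine sub_ext ?_ ?_
    · rw [avP_val, e]
      conv_rhs => rw [← avP_val hw]
      rw [← Category.assoc, ← Category.assoc, ← mor_comp, ← mor_comp]
      rfl
    · obtain ⟨q, hq⟩ := mor_quotientMap (M := M) (N := N) (J := J) h
      rw [avP_toQuot, ← Category.assoc, ← mor_comp,
        show ((toQuot J D N).restrictScalars R).comp (subMap h χ) = q.comp ((toQuot J C M).restrictScalars R) from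
          AlgHom.ext fun x => (hq x χ hJ).symm,
        mor_comp, Category.assoc, avP_toQuot, MonObj.comp_one]
  rw [av, av, ← key, ← Category.assoc, ← Category.assoc, ← mor_comp, ← mor_comp]
  congr 2
  exact AlgHom.ext fun x => (π_subMap h χ hJ hχ x).symm

section Value

variable (j) in
/-- the canonical point of the base -/
def toT (C : Type u) [CommRing C] [Algebra R C] : X j C ⟶ Over.mk j :=
  Over.homMk (Spec.map (CommRingCat.ofHom (algebraMap R C))) rfl

theorem mor_toT {C D : Type u} [CommRing C] [Algebra R C] [CommRing D] [Algebra R D] (h : C →ₐ[R] D) :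
    mor j h ≫ toT j C = toT j D := by
  apply Over.OverMorphism.ext
  show Spec.map _ ≫ Spec.map _ = Spec.map _
  rw [← Spec.map_comp, ← CommRingCat.ofHom_comp, AlgHom.toRingHom_eq_coe, AlgHom.comp_algebraMap]

variable (f : H ⊗ Over.mk j ⟶ G)

/-- value at a point -/
def fv {C : Type u} [CommRing C] [Algebra R C] (x : X j C ⟶ H) : X j C ⟶ G := lift x (toT j C) ≫ f

theorem mor_fv {C D : Type u} [CommRing C] [Algebra R C] [CommRing D] [Algebra R D] (h : C →ₐ[R] D)
    (x : X j C ⟶ H) : mor j h ≫ fv f x = fv f (mor j h ≫ x) := by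
  rw [fv, fv, ← Category.assoc, comp_lift, mor_toT]

/-- the defect -/
def cv {C : Type u} [CommRing C] [Algebra R C] (x y : X j C ⟶ H) : X j C ⟶ G :=
  fv f x * fv f y * (fv f (x * y))⁻¹

theorem mor_cv {C D : Type u} [CommRing C] [Algebra R C] [CommRing D] [Algebra R D] (h : C →ₐ[R] D)
    (x y : X j C ⟶ H) : mor j h ≫ cv f x y = cv f (mor j h ≫ x) (mor j h ≫ y) := by
  rw [cv, cv, MonObj.comp_mul, MonObj.comp_mul, GrpObj.comp_inv, mor_fv, mor_fv, mor_fv, MonObj.comp_mul]

variable (hf : ∀ (C : Type u) [CommRing C] [Algebra R C], (∀ r ∈ J, algebraMap R C r = 0) →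
  ∀ x y : X j C ⟶ H, fv f (x * y) = fv f x * fv f y)

include hf in
theorem triv_cv {C : Type u} [CommRing C] [Algebra R C] (x y : X j C ⟶ H) : Triv J (cv f x y) :=
  fun E _ _ q hE => by rw [mor_cv, cv, hf E hE, mul_inv_cancel]

/-- constants -/
def incC {C : Type u} [CommRing C] [Algebra R C] (M : Type) [CommGroup M] (x : X j C ⟶ H) :
    X j (MonoidAlgebra C M) ⟶ H :=
  mor j (IsScalarTower.toAlgHom R C (MonoidAlgebra C M)) ≫ x

/-- the universal point of a chart -/
def yU {C : Type u} [CommRing C] [Algebra R C]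
    (e : Chart (Spec.map (CommRingCat.ofHom (algebraMap R C)) ≫ j) H M) : X j (MonoidAlgebra C M) ⟶ H :=
  adR' (algebraMap R C) rfl (MonoidAlgebra C M) (IsScalarTower.algebraMap_eq R C _) ≫
    e.pt (MonoidAlgebra.of C M)

theorem twist_inc {C D : Type u} [CommRing C] [Algebra R C] [CommRing D] [Algebra R D] (h : C →ₐ[R] D)
    (χ : M →* MonoidAlgebra D N) :
    (twist h χ).comp (IsScalarTower.toAlgHom R C (MonoidAlgebra C M)) =
      (IsScalarTower.toAlgHom R D (MonoidAlgebra D N)).comp h :=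
  AlgHom.ext fun c => twist_algebraMap h χ c

theorem exists_twist_yU {C D : Type u} [CommRing C] [Algebra R C] [CommRing D] [Algebra R D]
    (e : Chart (Spec.map (CommRingCat.ofHom (algebraMap R C)) ≫ j) H M)
    (e' : Chart (Spec.map (CommRingCat.ofHom (algebraMap R D)) ≫ j) H N) (h : C →ₐ[R] D) :
    ∃ χ : M →* MonoidAlgebra D N, (∀ m, m ≠ 1 → (χ m).coeff 1 = 0) ∧ mor j (twist h χ) ≫ yU e = yU e' := by
  have hj : Spec.map (CommRingCat.ofHom h.toRingHom) ≫ Spec.map (CommRingCat.ofHom (algebraMap R C)) ≫ j =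
      Spec.map (CommRingCat.ofHom (algebraMap R D)) ≫ j := by
    rw [← Spec.map_comp_assoc, ← CommRingCat.ofHom_comp, AlgHom.toRingHom_eq_coe, AlgHom.comp_algebraMap]
  let eD := e.restrict h.toRingHom hj
  obtain ⟨χ, hχ⟩ := (eD.bij (MonoidAlgebra D N)).2 (e'.pt (MonoidAlgebra.of D N))
  refine ⟨χ, fun m hm => coeff_one_eq_zero eD e' χ hχ m hm, Over.OverMorphism.ext ?_⟩
  letI := downAlg h.toRingHom (MonoidAlgebra D N)
  have h2 : e.pt χ = mor _ (MonoidAlgebra.lift C (MonoidAlgebra D N) M χ) ≫ e.pt (MonoidAlgebra.of C M) := by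
    rw [e.nat]
    congr 1
    exact MonoidHom.ext fun x => (MonoidAlgebra.lift_of χ x).symm
  rw [yU, yU, ← hχ]
  show Spec.map _ ≫ 𝟙 _ ≫ (e.pt (MonoidAlgebra.of C M)).left = 𝟙 _ ≫ 𝟙 _ ≫ (e.pt χ).left
  rw [Category.id_comp, Category.id_comp, Category.id_comp, h2]
  show _ = Spec.map _ ≫ _
  congr 3

/-- the primitive of the defect -/
def prim {C : Type u} [CommRing C] [Algebra R C]
    (e : Chart (Spec.map (CommRingCat.ofHom (algebraMap R C)) ≫ j) H M) (x : X j C ⟶ H) : X j C ⟶ G :=
  av hJ (triv_cv f hf (incC M x) (yU e))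

theorem mor_prim {C D : Type u} [CommRing C] [Algebra R C] [CommRing D] [Algebra R D]
    (e : Chart (Spec.map (CommRingCat.ofHom (algebraMap R C)) ≫ j) H M)
    (e' : Chart (Spec.map (CommRingCat.ofHom (algebraMap R D)) ≫ j) H N) (h : C →ₐ[R] D) (x : X j C ⟶ H) :
    mor j h ≫ prim hJ f hf e x = prim hJ f hf e' (mor j h ≫ x) := by
  obtain ⟨χ, hχ, hy⟩ := exists_twist_yU e e' h
  refine av_twist hJ _ h χ hχ _ ?_
  rw [mor_cv, hy]
  congr 1
  rw [incC, incC, ← Category.assoc, ← Category.assoc, ← mor_comp, ← mor_comp, twist_inc]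

/-- the corrected value -/
def fix {C : Type u} [CommRing C] [Algebra R C]
    (e : Chart (Spec.map (CommRingCat.ofHom (algebraMap R C)) ≫ j) H M) (x : X j C ⟶ H) : X j C ⟶ G :=
  (prim hJ f hf e x)⁻¹ * fv f x

theorem mor_fix {C D : Type u} [CommRing C] [Algebra R C] [CommRing D] [Algebra R D]
    (e : Chart (Spec.map (CommRingCat.ofHom (algebraMap R C)) ≫ j) H M)
    (e' : Chart (Spec.map (CommRingCat.ofHom (algebraMap R D)) ≫ j) H N) (h : C →ₐ[R] D) (x : X j C ⟶ H) :
    mor j h ≫ fix hJ f hf e x = fix hJ f hf e' (mor j h ≫ x) := by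
  rw [fix, fix, MonObj.comp_mul, GrpObj.comp_inv, mor_prim hJ f hf e e' h, mor_fv]

theorem fix_of_kill {C : Type u} [CommRing C] [Algebra R C]
    (e : Chart (Spec.map (CommRingCat.ofHom (algebraMap R C)) ≫ j) H M) (hC : ∀ r ∈ J, algebraMap R C r = 0)
    (x : X j C ⟶ H) : fix hJ f hf e x = fv f x := by
  rw [fix, prim, av_one, inv_one, _root_.one_mul]
  rw [cv, hf _ (fun r hr => by
    rw [IsScalarTower.algebraMap_apply R C (MonoidAlgebra C M), hC r hr, map_zero]), mul_inv_cancel]

theorem fix_mul {C : Type u} [CommRing C] [Algebra R C]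
    (e : Chart (Spec.map (CommRingCat.ofHom (algebraMap R C)) ≫ j) H M) (x y : X j C ⟶ H) :
    fix hJ f hf e (x * y) = fix hJ f hf e x * fix hJ f hf e y := by
  let x' := incC M x
  let y' := incC M y
  let z := yU e
  have hxy : incC M (x * y) = x' * y' := MonObj.comp_mul _ _ _
  have h1 : cv f x' y' * cv f (incC M (x * y)) z =
      (fv f x' * cv f y' z * (fv f x')⁻¹) * cv f x' (y' * z) := by
    rw [hxy]
    simp only [cv, _root_.mul_assoc x' y' z]
    group
  have t2 := triv_cv f hf (incC M (x * y)) z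
  have t4 := (triv_cv f hf y' z).conj (fv f x')
  have t5 := triv_cv f hf x' (y' * z)
  have h2 := av_congr hJ ((triv_cv f hf x' y').mul t2) (t4.mul t5) h1
  rw [av_mul hJ (triv_cv f hf x' y') t2, av_mul hJ t4 t5] at h2
  rw [av_const hJ (triv_cv f hf x' y') (cv f x y) (triv_cv f hf x y) (mor_cv f _ x y).symm,
    av_conj hJ (triv_cv f hf y' z) (fv f x) t4 (by rw [mor_fv]; rfl)] at h2
  -- invariance of the average
  let E := MonoidAlgebra C M
  let aC := adR (algebraMap R C) (j' := Spec.map (CommRingCat.ofHom (algebraMap R C)) ≫ j) rfl C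
    (show algebraMap R C = (algebraMap C C).comp (algebraMap R C) from rfl)
  obtain ⟨ψ, hψ⟩ := (e.bij C).2 (aC ≫ y)
  let χ : M →* MonoidAlgebra C M :=
    (algebraMap C E).toMonoidHom.comp ψ * MonoidAlgebra.of C M
  have hy : y' * z = mor j (twist (AlgHom.id R C) χ) ≫ z := by
    apply (cancel_epi (adR (algebraMap R C) (j' := Spec.map (CommRingCat.ofHom (algebraMap R C)) ≫ j) rfl E
      (IsScalarTower.algebraMap_eq R C E))).1
    rw [MonObj.comp_mul]
    have hz : adR (algebraMap R C) (j' := Spec.map (CommRingCat.ofHom (algebraMap R C)) ≫ j) rfl E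
        (IsScalarTower.algebraMap_eq R C E) ≫ z = e.pt (MonoidAlgebra.of C M) := by
      show _ ≫ adR' _ _ _ _ ≫ _ = _
      rw [← Category.assoc, adR_adR', Category.id_comp]
    have hy' : adR (algebraMap R C) (j' := Spec.map (CommRingCat.ofHom (algebraMap R C)) ≫ j) rfl E
        (IsScalarTower.algebraMap_eq R C E) ≫ y' = e.pt ((algebraMap C E).toMonoidHom.comp ψ) := by
      rw [show (algebraMap C E).toMonoidHom.comp ψ = ((Algebra.ofId C E : C →ₐ[C] E) : C →* E).comp ψ from rfl,
        ← e.nat, hψ]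
      apply Over.OverMorphism.ext
      show 𝟙 _ ≫ Spec.map _ ≫ y.left = Spec.map _ ≫ 𝟙 _ ≫ y.left
      rw [Category.id_comp, Category.id_comp]
      rfl
    rw [hz, hy', ← e.pt_mul]
    have h3 : e.pt χ = mor _ (MonoidAlgebra.lift C E M χ) ≫ e.pt (MonoidAlgebra.of C M) := by
      rw [e.nat]
      congr 1
      exact MonoidHom.ext fun m => (MonoidAlgebra.lift_of χ m).symm
    rw [h3]
    apply Over.OverMorphism.ext
    show Spec.map _ ≫ _ = 𝟙 _ ≫ Spec.map _ ≫ 𝟙 _ ≫ (e.pt (MonoidAlgebra.of C M)).left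
    rw [Category.id_comp, Category.id_comp]
    congr 3
  have h5 : av hJ t5 = prim hJ f hf e x := by
    refine Eq.trans ?_ (Category.id_comp _)
    rw [← mor_id]
    refine (av_twist hJ (triv_cv f hf x' z) (AlgHom.id R C) χ (fun m hm => ?_) t5 ?_).symm
    · simp [χ, E, MonoidAlgebra.coe_algebraMap, coeff_single_one_mul, MonoidAlgebra.coeff_single,
        Finsupp.single_apply, hm]
    · rw [mor_cv, hy]
      congr 1
      show incC M x = mor j _ ≫ mor j _ ≫ x
      rw [← Category.assoc, ← mor_comp, twist_inc]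
      rfl
  rw [h5] at h2
  change cv f x y * prim hJ f hf e (x * y) =
    fv f x * prim hJ f hf e y * (fv f x)⁻¹ * prim hJ f hf e x at h2
  simp only [fix]
  have h6 : prim hJ f hf e (x * y) = (cv f x y)⁻¹ * (fv f x * prim hJ f hf e y * (fv f x)⁻¹ * prim hJ f hf e x) :=
    eq_inv_mul_of_mul_eq h2
  rw [h6, cv]
  group

end Value

end Groth.L25.HomSmooth
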